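import Cfsg.Agent.CosetEnum.Fi24E8.Orbit
import Cfsg.Agent.CosetEnum.Fi24E7.Long
import Cfsg.Agent.CosetEnum.Fi24Q.Chain
import Cfsg.Agent.CosetEnum.WE8A.Bound
import Cfsg.Agent.CosetEnum.WE8B.Bound
import Cfsg.Agent.CosetEnum.WE8C.Bound
import Cfsg.Agent.CosetEnum.WE8D.Bound
import Cfsg.Agent.CosetEnum.WE8E.Bound
import Cfsg.Agent.CosetEnum.WE8F.Bound
import Cfsg.Agent.CosetEnum.WE8G.Bound
import Cfsg.Agent.CosetEnum.WE8H.Bound

set_option autoImplicit false
set_option maxRecDepth 100000

/-!
The relation `(d c b d e f d h i)^10 = 1` in the presented Fi24: the element has order dividing three,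
lies in the subgroup of type E8, and acts trivially on an orbit of that subgroup of length 120, whose
kernel has order at most two.
-/

namespace CfsgLib.CosetEnum.Fi24E8

theorem card_le : Finite WE8.setup.Grp ∧ Nat.card WE8.setup.Grp ≤ 696729600 := by
  have h1 := WE8H.bound 1 ⟨WE8.setup.finite_letSub_nil, WE8.setup.card_letSub_nil⟩
  have h2 := WE8G.bound _ h1
  have h3 := WE8F.bound _ h2
  have h4 := WE8E.bound _ h3
  have h5 := WE8D.bound _ h4
  have h6 := WE8C.bound _ h5
  have h7 := WE8B.bound _ h6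
  have h8 := WE8A.bound _ h7
  have htop : WE8.setup.letSub WE8A.enum.L = ⊤ := WE8.setup.letSub_all _ (by
    intro x hx
    have hx' : x < 8 := hx
    interval_cases x <;> decide +kernel)
  rw [htop] at h8
  haveI := h8.1
  refine ⟨Finite.of_equiv _ Subgroup.topEquiv.toEquiv, ?_⟩
  rw [← Nat.card_congr (Subgroup.topEquiv (G := WE8.setup.Grp)).toEquiv]
  exact h8.2.trans (by decide +kernel)

/-- The letters as letters of Fi24. -/
def m24 (x : ℕ) : ℕ := [0, 1, 2, 3, 4, 5, 7, 10].getD x 0

theorem m24_lt (x : ℕ) (hx : x < 8) : m24 x < 12 := by interval_cases x <;> decide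

theorem equiv_all (x : ℕ) (hx : x < 8) (i : ℕ) (hi : i < 120) :
    Fi24H.T (m24 x) (ext oTab i) = ext oTab (ext (tb x) i) := by
  interval_cases x
  · have h1 := allR_spec 7 0 equiv0 i (Nat.zero_le _) (by omega)
    rw [show Nat.blt i 120 = true by simpa using hi] at h1
    exact Nat.eq_of_beq_eq_true h1
  · have h1 := allR_spec 7 0 equiv1 i (Nat.zero_le _) (by omega)
    rw [show Nat.blt i 120 = true by simpa using hi] at h1
    exact Nat.eq_of_beq_eq_true h1
  · have h1 := allR_spec 7 0 equiv2 i (Nat.zero_le _) (by omega)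
    rw [show Nat.blt i 120 = true by simpa using hi] at h1
    exact Nat.eq_of_beq_eq_true h1
  · have h1 := allR_spec 7 0 equiv3 i (Nat.zero_le _) (by omega)
    rw [show Nat.blt i 120 = true by simpa using hi] at h1
    exact Nat.eq_of_beq_eq_true h1
  · have h1 := allR_spec 7 0 equiv4 i (Nat.zero_le _) (by omega)
    rw [show Nat.blt i 120 = true by simpa using hi] at h1
    exact Nat.eq_of_beq_eq_true h1
  · have h1 := allR_spec 7 0 equiv5 i (Nat.zero_le _) (by omega)
    rw [show Nat.blt i 120 = true by simpa using hi] at h1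
    exact Nat.eq_of_beq_eq_true h1
  · have h1 := allR_spec 7 0 equiv6 i (Nat.zero_le _) (by omega)
    rw [show Nat.blt i 120 = true by simpa using hi] at h1
    exact Nat.eq_of_beq_eq_true h1
  · have h1 := allR_spec 7 0 equiv7 i (Nat.zero_le _) (by omega)
    rw [show Nat.blt i 120 = true by simpa using hi] at h1
    exact Nat.eq_of_beq_eq_true h1

theorem oTab_inj : ((List.range 120).all fun a => (List.range 120).all fun b =>
    decide (ext oTab a = ext oTab b → a = b)) = true := by decide +kernel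

/-- A square of an element of the subgroup of type E8 acting trivially on the orbit is trivial. -/
theorem sq_eq_one_of_mem (h : Wide.On Fi24H.fastFix 0 306936)
    (φ : Fi24.setup.Grp →* Equiv.Perm (Fin 306936))
    (hφ : ∀ x, x < 12 → φ (Fi24.setup.g x) = Fi24H.perm h x) (y : Fi24.setup.Grp)
    (hy : y ∈ Fi24.setup.letSub [0, 1, 2, 3, 4, 5, 7, 10])
    (h1 : ∀ i : Fin 306936, (∃ a, a < 120 ∧ ext oTab a = i) → φ y i = i) : y * y = 1 := by
  obtain ⟨ψ, hψ⟩ := exists_hom120
  obtain ⟨χ, hχ⟩ := WE8.setup.exists_hom (Fi24.setup.g ∘ m24) (fun x _ => Fi24.setup.of_sq _) (by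
    intro w hw
    have hmem : w.map m24 ∈ Fi24.words := by
      have := List.all_eq_true.mp (show WE8.words.all (fun w => decide (w.map m24 ∈ Fi24.words)) = true by
        decide +kernel) w hw
      exact of_decide_eq_true this
    have := Fi24.setup.prod_mem _ hmem
    simpa [prodw, List.map_map] using this)
  haveI := card_le.1
  have hlt : ∀ i : Fin 120, ext oTab i < 306936 := fun i => by
    have h1 := allR_spec 7 0 orbit_lt i (Nat.zero_le _) (by omega)
    rw [show Nat.blt i.val 120 = true by simp] at h1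
    simpa using h1
  let O : Fin 120 → Fin 306936 := fun i => ⟨ext oTab i, hlt i⟩
  have hO : Function.Injective O := fun i j hij =>
    Fin.ext (of_decide_eq_true (List.all_eq_true.mp (List.all_eq_true.mp oTab_inj i
      (List.mem_range.mpr i.2)) j (List.mem_range.mpr j.2)) (congrArg Fin.val hij))
  have heq : ∀ z : WE8.setup.Grp, ∀ i, φ (χ z) (O i) = O (ψ z i) := by
    intro z
    have hz : z ∈ Subgroup.closure (WE8.setup.g '' {x | x < 8}) := by
      have : Subgroup.closure (WE8.setup.g '' {x | x < 8}) = ⊤ := by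
        rw [eq_top_iff, ← PresentedGroup.closure_range_of]
        refine Subgroup.closure_mono ?_
        rintro _ ⟨a, rfl⟩
        exact ⟨WE8.setup.ix a, WE8.setup.ix_lt a, by rw [Setup.g, WE8.setup.en_ix]⟩
      rw [this]
      exact Subgroup.mem_top z
    induction hz using Subgroup.closure_induction with
    | mem z hz =>
      obtain ⟨x, hx, rfl⟩ := hz
      intro i
      have hm := m24_lt x hx
      rw [hχ x hx, hψ x hx, Function.comp_apply, hφ _ hm]
      refine Fin.ext ?_
      rw [Fi24H.perm_apply h _ hm]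
      show Fi24H.T (m24 x) (ext oTab i) = ext oTab (perm x i).val
      rw [equiv_all x hx i i.2]
      congr 1
      unfold perm
      rw [dif_pos (show x < 8 from hx)]
      rfl
    | one => intro i; simp
    | mul a b _ _ ha hb =>
      intro i
      rw [map_mul, map_mul, map_mul, Equiv.Perm.mul_apply, Equiv.Perm.mul_apply, hb, ha]
    | inv a _ ha =>
      intro i
      rw [map_inv, map_inv, map_inv, Equiv.Perm.inv_eq_iff_eq, ha, Equiv.Perm.inv_def, Equiv.apply_symm_apply]
  have hr : y ∈ χ.range := by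
    refine (Subgroup.closure_le _).mpr ?_ hy
    rintro _ ⟨x, hx, rfl⟩
    simp only [List.mem_cons, List.not_mem_nil, or_false] at hx
    rcases hx with rfl | rfl | rfl | rfl | rfl | rfl | rfl | rfl
    · exact ⟨WE8.setup.g 0, hχ 0 (by decide)⟩
    · exact ⟨WE8.setup.g 1, hχ 1 (by decide)⟩
    · exact ⟨WE8.setup.g 2, hχ 2 (by decide)⟩
    · exact ⟨WE8.setup.g 3, hχ 3 (by decide)⟩
    · exact ⟨WE8.setup.g 4, hχ 4 (by decide)⟩
    · exact ⟨WE8.setup.g 5, hχ 5 (by decide)⟩
    · exact ⟨WE8.setup.g 6, hχ 6 (by decide)⟩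
    · exact ⟨WE8.setup.g 7, hχ 7 (by decide)⟩
  obtain ⟨z, rfl⟩ := hr
  have hzk : z ∈ ψ.ker := by
    rw [MonoidHom.mem_ker]
    exact Equiv.ext fun i => hO ((heq z i).symm.trans (h1 _ ⟨i, i.2, rfl⟩))
  have hge := range_ge ψ fun x hx => ⟨WE8.setup.g x, fun i => by
    rw [hψ x hx, inv_eq_of_mul_eq_one_right (perm_sq x)]
    unfold perm
    rw [dif_pos hx]
    rfl⟩
  have hker : Nat.card ψ.ker * Nat.card ψ.range = Nat.card WE8.setup.Grp := by
    rw [Subgroup.card_eq_card_quotient_mul_card_subgroup ψ.ker, mul_comm,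
      Nat.card_congr (QuotientGroup.quotientKerEquivRange ψ).toEquiv]
  have hk : Nat.card ψ.ker = 1 ∨ Nat.card ψ.ker = 2 := by
    have hpos : 0 < Nat.card ψ.ker := Nat.card_pos
    have := card_le.2
    have hm : Nat.card ψ.ker * 348364800 ≤ 696729600 :=
      (Nat.mul_le_mul_left _ hge).trans (hker.le.trans this)
    omega
  have hz2 : (⟨z, hzk⟩ : ψ.ker) ^ 2 = 1 := by
    rcases hk with hk | hk
    · have h' : (⟨z, hzk⟩ : ψ.ker) ^ 1 = 1 := hk ▸ pow_card_eq_one'
      rw [pow_one] at h'
      rw [h', one_pow]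
    · exact hk ▸ pow_card_eq_one'
  have hzz : z * z = 1 := by simpa [pow_two] using congrArg Subtype.val hz2
  rw [← map_mul, hzz, map_one]

/-- The spider word. -/
def spiderWord : List ℕ := (List.replicate 10 [3, 2, 1, 3, 4, 5, 3, 7, 8]).flatten

theorem spider_fixes : ((List.range 120).all fun a => Nat.beq
    (Fi24H.walkT spiderWord (ext oTab a)) (ext oTab a)) = true := by decide +kernel

theorem cube_fixes : ((List.range 56).all fun a => Nat.beq
    (Fi24H.walkT (List.replicate 3 spiderWord).flatten (ext Fi24E7.oTab a)) (ext Fi24E7.oTab a)) = true := by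
  decide +kernel

theorem spiderWord_one (h : Wide.On Fi24H.fastFix 0 306936) : prodw Fi24.setup.g spiderWord = 1 := by
  obtain ⟨φ, hφ⟩ := Fi24H.exists_perm_hom h
  have key : ∀ (w : List ℕ) (o : ℕ → ℕ) (m : ℕ), (∀ x ∈ w, x < 12) →
      ((List.range m).all fun a => Nat.beq (Fi24H.walkT w (o a)) (o a)) = true →
      ∀ i : Fin 306936, (∃ a, a < m ∧ o a = i) → φ (prodw Fi24.setup.g w) i = i := by
    rintro w o m hlt hfix i ⟨a, ha, hai⟩
    rw [Fi24.setup.hom_prodw φ hφ w hlt, eq_comm, ← Equiv.Perm.inv_eq_iff_eq]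
    refine Fin.ext ((Fi24H.perm_word h w hlt i).trans ?_)
    rw [← hai]
    exact Nat.eq_of_beq_eq_true (List.all_eq_true.mp hfix a (List.mem_range.mpr ha))
  have hs : Fi24Q.sWord.map (fun x => [0, 1, 2, 3, 4, 5, 7, 8, 10, 11].getD x 0) = spiderWord := by
    decide +kernel
  have hm := Fi24Q.sWord_mem
  rw [hs] at hm
  have hm' : prodw Fi24.setup.g spiderWord ∈ Fi24.setup.letSub [0, 1, 2, 3, 4, 5, 7, 10] := by
    refine (Subgroup.closure_mono ?_ : _ ≤ Fi24.setup.letSub [0, 1, 2, 3, 4, 5, 7, 10]) hm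
    rintro _ ⟨x, hx, rfl⟩
    exact ⟨x, by simp only [List.mem_cons, List.not_mem_nil, or_false] at hx ⊢; omega, rfl⟩
  have h2 := sq_eq_one_of_mem h φ hφ _ hm' (key _ _ _ (by decide +kernel) spider_fixes)
  have hc : Fi24P.sCube.map (fun x => [0, 1, 2, 3, 4, 5, 7, 8].getD x 0) =
      (List.replicate 3 spiderWord).flatten := by decide +kernel
  have hm3 := Fi24P.sCube_mem
  rw [hc] at hm3
  have h3 := Fi24E7.eq_one_of_mem h φ hφ _ hm3 (key _ _ _ (by decide +kernel) cube_fixes)
  rw [prodw_replicate, pow_succ, pow_two, h2, one_mul] at h3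
  exact h3

end CfsgLib.CosetEnum.Fi24E8
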