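import Cfsg.Agent.CosetEnum.Fi24H.Perm
import Cfsg.Agent.CosetEnum.Lower
import Cfsg.Agent.CosetEnum.WE8.Setup

set_option autoImplicit false
set_option maxRecDepth 100000
set_option exponentiation.threshold 200000
set_option Elab.async false

/-! The action of type E8 on an orbit of length 120 (generated certificate). -/

namespace CfsgLib.CosetEnum.Fi24E8

def t0 : ℕ := 0x77000760007500074000730006a00071000690006f0006e0006d0006c000630007200070000680006700066000650005c0006b0006200061000600005f0005600055000640005b0005a00059000500004f0005e0005d0005400053000490004800058000570004e0004d000440004b00042000520005100047000460003d0004c0003b0004a00041000400003f00036000450003c000430003a00039000330002f0003e000350003400038000320002d0002a000370002e000310002c0002800030000290002b0002700026000230002400025000220001f0001e00021000200001d0001a0001b0001c000190001500017000160001800011000100001200014000130000f0000e0000d0000c0000b0000a00009000080000700006000050000400003000010000200000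

def t1 : ℕ := 0x770007600075000740006b000720006a000700006f0006e0006d0006400073000710006200068000670005e0005d0006c000630006900061000580005700066000650005c0005b0005200051000600005f0005600055000540004a0005a00059000500004f0004e0004d0004c000430005300049000480004700046000450003f0004b000420004100040000440003e00039000380003b0003a0003d0003c00037000320003100034000330003600035000300002c0002b0002d0002f0002e000260002500028000270002a0002900020000230002200021000240001b0001e0001d0001c0001f000160001900018000170001a000120001400013000150000e0000d0000f00011000100000c0000b0000a00009000080000700006000050000400002000030000100000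

def t2 : ℕ := 0x7700076000750006c000730006b00071000700006f000660006500074000720006300069000600005f0006e0006d000640006a0005b0005900068000670005e0005d0005c000620005a000610005800057000560005500054000530004c00051000500004f0004e0004d000520004b00045000440004800047000460004a000490003e0003d0003c000400003f00043000420004100036000350003900038000370003b0003a0002e000330003200031000300002f000340002d000270002b0002a00029000280002c0002200021000240001f00026000250001c000230001a0001d000200001b0001e000190001800017000160001500014000130000f0001100010000120000c0000b0000e0000d0000a00009000080000700006000050000300004000020000100000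

def t3 : ℕ := 0x770006e0006d000740006c00072000710007000068000760007500073000640006a000690006f0006700066000650006b0005c0006200061000600005a0005e0005d00063000540005f00053000580005200056000550005b00059000570004a00050000490004e0004d0004c0004b000510004f00042000470004100045000440004300048000460003a0003f000370003d0003c0003b0004000039000380003e0002f0003500034000330002c000310003000036000290002d00032000250002a0002e0002300027000260002b00024000280001d00021000200001f0001e00022000180001b00015000190001c00017000120001a00014000130001600011000100000f0000e0000d0000a000090000c0000b000080000700006000040000500003000020000100000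

def t4 : ℕ := 0x6f00076000750006e00073000720007100070000770007400067000660006b0006a00069000680006d0006c0005f0005e00063000620006100060000650006400057000560005b0005a00059000580005d0005c0004f0004e0004b0005200051000500005500054000460004c00053000430004900048000470004d0003e000440004a0003b00041000400003f00045000360003c00042000340003200038000370003d0002e0003a00033000390002b000300002f00035000280002c000310002a000290002d00027000260002500024000230002200021000200001f0001e000190001c0001b0001a0001d0001400017000160001100018000130000e00015000100000c000120000d0000f0000b0000a00007000080000900005000060000400003000020000100000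

def t5 : ℕ := 0x770006f00075000740007300072000710007000076000680006d0006c0006b0006a000690006e000610006000065000640006300062000670006600059000580005d0005c0005b000530005f0005e000510005000055000540005a0004a000570005600048000470004d000450004b00052000420004f0004e000400004c0003d00043000490003a00046000390003e00044000350003b000410003f0003100037000360003c000340002d0003200038000300002f0002e000330002c0002b0002a000290002800027000260002500024000230002200021000200001f0001e0001d0001c0001b0001a000170001800019000160001500013000140001200010000110000f0000d0000e0000b0000c000090000a000060000700008000050000400003000020000100000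

def t6 : ℕ := 0x7700076000750006d000730007200071000700006f0006700074000650006b0006a00069000610006e0005f0006c0005d00063000620006800059000660005700064000550005b0005a00060000510005e0004f0005c0004d000530005200058000480005600046000540004c0004b0004a0004900050000400004e0004500044000430004200041000470003f0003e0003d0003c0003b0003a000390003800030000360003500034000330003200031000370002a0002e0002d000260002b0002f0002400028000220002c00020000290001e000270001c000250001a000230001d00021000160001f0001900018000170001b0001500014000130001200011000100000f0000e0000d0000c0000b00008000060000a0000500009000070000400003000020000100000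

def t7 : ℕ := 0x77000760007500074000730007200069000700006f0006e0006d0006c0006b000620007100068000670006600065000640005b0006a00061000600005f0005e0005d00054000630005a0005900058000570004e0004d0005c000530005200051000470004600056000550004c0004b0004a0004100040000500004f000450003c000430003a0004900048000380003e00035000440003400042000310003f000370002e0003d0003b000330002b000390003000029000360002d0002500032000240002f0002800021000200002c0002a000230001c00027000260001f0001e00018000220001b0001a000140001d00013000160001500019000170001200011000100000f0000e0000d0000c0000b0000a00009000080000700006000050000400003000020000000001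

/-- The tables on the orbit. -/
noncomputable def tb (x : ℕ) : ℕ := (Bool.rec (motive := fun _ => ℕ) (Bool.rec (motive := fun _ => ℕ) (Bool.rec (motive := fun _ => ℕ) t0 t1 (Nat.ble 1 x)) (Bool.rec (motive := fun _ => ℕ) t2 t3 (Nat.ble 3 x)) (Nat.ble 2 x)) (Bool.rec (motive := fun _ => ℕ) (Bool.rec (motive := fun _ => ℕ) t4 t5 (Nat.ble 5 x)) (Bool.rec (motive := fun _ => ℕ) t6 t7 (Nat.ble 7 x)) (Nat.ble 6 x)) (Nat.ble 4 x))

/-- The points of the orbit. -/
def oTab : ℕ := 0x15b000a7000a90004b00022000100000800003000ea0006e0007000032000170000b0000500097000a6000480004a000210000f00007000e9000620006d0002f00031000160000a000a4000960003f000470001e000200000e000e70006b00061000290002e0001300015000a10015700094000450003e0001a0001d000e000068000e40005f0002c000280009d0014e0008e00042000910003c000d600065001e4000dc0005a0005c0009a0014200088002a60014a0008b000d0001d6000d3001e0000d9001380028a002880013f00147001cb001ca001c8001c70013d0013c0013700135000d7000d1000cf000cd00099000890008600085000630005800057000400003a000390002a000260001b0001900012000110000d0000c000090000600004000020000100000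

theorem valid120 : allR (validEntry 120 8 tb id) 7 0 = true := by decide +kernel

theorem fixes120 : WE8.words.all (fun w => fixesAll 120 tb w 7) = true := by decide +kernel

theorem orbit_lt : allR (fun i => bif Nat.blt i 120 then Nat.blt (ext oTab i) 306936 else true) 7 0 = true := by decide +kernel

theorem equiv0 : allR (fun i => bif Nat.blt i 120 then Nat.beq (Fi24H.u0 (ext oTab i)) (ext oTab (ext t0 i)) else true) 7 0 = true := by decide +kernel

theorem equiv1 : allR (fun i => bif Nat.blt i 120 then Nat.beq (Fi24H.u1 (ext oTab i)) (ext oTab (ext t1 i)) else true) 7 0 = true := by decide +kernel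

theorem equiv2 : allR (fun i => bif Nat.blt i 120 then Nat.beq (Fi24H.u2 (ext oTab i)) (ext oTab (ext t2 i)) else true) 7 0 = true := by decide +kernel

theorem equiv3 : allR (fun i => bif Nat.blt i 120 then Nat.beq (Fi24H.u3 (ext oTab i)) (ext oTab (ext t3 i)) else true) 7 0 = true := by decide +kernel

theorem equiv4 : allR (fun i => bif Nat.blt i 120 then Nat.beq (Fi24H.u4 (ext oTab i)) (ext oTab (ext t4 i)) else true) 7 0 = true := by decide +kernel

theorem equiv5 : allR (fun i => bif Nat.blt i 120 then Nat.beq (Fi24H.u5 (ext oTab i)) (ext oTab (ext t5 i)) else true) 7 0 = true := by decide +kernel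

theorem equiv6 : allR (fun i => bif Nat.blt i 120 then Nat.beq (Fi24H.u7 (ext oTab i)) (ext oTab (ext t6 i)) else true) 7 0 = true := by decide +kernel

theorem equiv7 : allR (fun i => bif Nat.blt i 120 then Nat.beq (Fi24H.u10 (ext oTab i)) (ext oTab (ext t7 i)) else true) 7 0 = true := by decide +kernel

theorem valid_spec8 (i x : ℕ) (hi : i < 120) (hx : x < 8) :
    ext (tb x) i < 120 ∧ ext (tb x) (ext (tb x) i) = i := by
  have h1 := allR_spec 7 0 valid120 i (Nat.zero_le _) (by omega)
  unfold validEntry at h1
  rw [show Nat.blt i 120 = true by simpa using hi] at h1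
  simp only [cond_true] at h1
  have h2 := allR_spec 4 0 h1 x (Nat.zero_le _) (by omega)
  rw [show Nat.blt x 8 = true by simpa using hx] at h2
  simp only [cond_true, Bool.and_eq_true, Nat.blt_eq, Nat.beq_eq] at h2
  exact h2

/-- The permutation of a letter on the orbit. -/
noncomputable def perm (x : ℕ) : Equiv.Perm (Fin 120) :=
  if hx : x < 8 then
    { toFun := fun i => ⟨ext (tb x) i, (valid_spec8 i x i.2 hx).1⟩
      invFun := fun i => ⟨ext (tb x) i, (valid_spec8 i x i.2 hx).1⟩
      left_inv := fun i => Fin.ext (valid_spec8 i x i.2 hx).2
      right_inv := fun i => Fin.ext (valid_spec8 i x i.2 hx).2 }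
  else 1

theorem words_lt : ∀ w ∈ WE8.words, ∀ x ∈ w, x < 8 := by decide +kernel

theorem perm_sq (x : ℕ) : perm x * perm x = 1 := by
  unfold perm
  split
  · exact Equiv.ext fun i => Fin.ext (valid_spec8 i x i.2 (by assumption)).2
  · simp

theorem perm_word : ∀ w : List ℕ, (∀ x ∈ w, x < 8) → ∀ i : Fin 120,
    ((prodw perm w)⁻¹ i).val = walk tb w i := by
  intro w
  induction w with
  | nil => intro _ i; rfl
  | cons x w ih =>
    intro hw i
    have hx := hw x List.mem_cons_self
    rw [prodw_cons, mul_inv_rev, Equiv.Perm.mul_apply, ih (fun y hy => hw y (List.mem_cons_of_mem x hy)),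
      inv_eq_of_mul_eq_one_right (perm_sq x)]
    show walk tb w _ = walk tb w (CfsgLib.CosetEnum.T tb x i)
    congr 1
    unfold perm
    rw [dif_pos hx]
    rfl

theorem exists_hom120 : ∃ ψ : WE8.setup.Grp →* Equiv.Perm (Fin 120),
    ∀ x, x < 8 → ψ (WE8.setup.g x) = perm x := by
  refine WE8.setup.exists_hom perm (fun x _ => perm_sq x) fun w hw => ?_
  have hlt : ∀ x ∈ w, x < 8 := words_lt w hw
  rw [← inv_eq_one]
  refine Equiv.ext fun i => Fin.ext ((perm_word w hlt i).trans ?_)
  have h1 := allR_spec 7 0 (List.all_eq_true.mp fixes120 w hw) i (Nat.zero_le _) (by omega)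
  rw [show Nat.blt i.val 120 = true by simp] at h1
  exact Nat.eq_of_beq_eq_true h1

noncomputable def sg0 (x : ℕ) : ℕ := (Bool.rec (motive := fun _ => ℕ) (Bool.rec (motive := fun _ => ℕ) (Bool.rec (motive := fun _ => ℕ) t0 t1 (Nat.ble 1 x)) (Bool.rec (motive := fun _ => ℕ) t2 t3 (Nat.ble 3 x)) (Nat.ble 2 x)) (Bool.rec (motive := fun _ => ℕ) (Bool.rec (motive := fun _ => ℕ) t4 t5 (Nat.ble 5 x)) (Bool.rec (motive := fun _ => ℕ) t6 t7 (Nat.ble 7 x)) (Nat.ble 6 x)) (Nat.ble 4 x))

def st0 : ℕ := 0x100000000010000000001000000000100000000010000000001000000000100000000010000000001000000000000006f040000006e030000006d030000006c020000006b010000006a0000000069070000006900000000680300000066020000006502000000640100000063000000006207000000620100000060020000005f020000005e010000005d010000005c000000005b070000005b0200000059020000005801000000570100000056000000005500000000540700000054030000005201000000510100000050000000004f000000004e070000004d070000004d060000004a0100000049000000004800000000470700000046070000004606000000460400000044000000004301000000420000000041070000004007000000400600000040050000003d000000003c070000003b000000003a070000003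a050000003a03000000380700000036000000003507000000350500000034070000003404000000310700000031050000002f000000002e070000002e040000002e020000002d050000002b070000002b040000002a000000002907000000290300000028040000002507000000250300000024070000002406000000230300000021070000002007000000200600000020010000001e060000001c070000001c060000001c020000001a060000001a02000000180700000018030000001606000000150300000014070000001404000000130700000012030000001104000000110000000010000000000e040000000e010000000d010000000c040000000c020000000b020000000a0300000009030000000806000000060600000006050000000506000000050400000004030000000302000000020100000001000000000007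

def orb0 : ℕ := 0xffffffffffffffffffffffffffffff

theorem reach0_eq : reach sg0 (fun s => if s < 8 then [s] else []) 7 st0 0 = orb0 := by decide +kernel

theorem count0_eq : cntR (fun j => bit orb0 j) 7 0 = 120 := by decide +kernel

theorem level0 (φ : WE8.setup.Grp →* Equiv.Perm (Fin 120)) (him : ∀ x, x < 8 → IsImg φ (tb x))
    (m' : ℕ) (h : m' ≤ Nat.card (fixK φ (0 :: []))) : 120 * m' ≤ Nat.card (fixK φ []) :=
  level (ns := 8) sg0 (d := 7) (dR := 7) (steps := st0) (R := orb0) (by decide) (by decide)
    (by intro s hs; interval_cases s; exacts [him 0 (by decide), him 1 (by decide), him 2 (by decide), him 3 (by decide), him 4 (by decide), him 5 (by decide), him 6 (by decide), him 7 (by decide)])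
    (by intro s hs; interval_cases s <;> decide +kernel)
    reach0_eq count0_eq (show orb0 < 2 ^ 120 by decide +kernel) h

noncomputable def sg1 (x : ℕ) : ℕ := (Bool.rec (motive := fun _ => ℕ) (Bool.rec (motive := fun _ => ℕ) t0 (Bool.rec (motive := fun _ => ℕ) t1 t2 (Nat.ble 2 x)) (Nat.ble 1 x)) (Bool.rec (motive := fun _ => ℕ) (Bool.rec (motive := fun _ => ℕ) t3 t4 (Nat.ble 4 x)) (Bool.rec (motive := fun _ => ℕ) t5 t6 (Nat.ble 6 x)) (Nat.ble 5 x)) (Nat.ble 3 x))

def st1 : ℕ := 0x10000000001000000000100000000010000000001000000000100000000010000000001000000000100000000000000690000000062010000005b0200000054030000004d0600000046060000004604000000400600000040050000003a050000003a030000003505000000340400000031050000002e040000002e020000002d050000002b0400000029030000002804000000250300000024060000002303000000200600000020010000001e060000001c060000001c020000001a060000001a02000000180300000016060000001503000000140400000012030000001104000000110000000010000000000e040000000e010000000d010000000c040000000c020000000b020000000a030000000903000000080600000006060000000605000000050600000005040000000403000000030200000002010000000100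

def orb1 : ℕ := 0x10204081060c3153a6b3bdd7ffffe

theorem reach1_eq : reach sg1 (fun s => if s < 7 then [s] else []) 6 st1 1 = orb1 := by decide +kernel

theorem count1_eq : cntR (fun j => bit orb1 j) 7 0 = 56 := by decide +kernel

theorem level1 (φ : WE8.setup.Grp →* Equiv.Perm (Fin 120)) (him : ∀ x, x < 8 → IsImg φ (tb x))
    (m' : ℕ) (h : m' ≤ Nat.card (fixK φ (1 :: [0]))) : 56 * m' ≤ Nat.card (fixK φ [0]) :=
  level (ns := 7) sg1 (d := 7) (dR := 6) (steps := st1) (R := orb1) (by decide) (by decide)
    (by intro s hs; interval_cases s; exacts [him 0 (by decide), him 1 (by decide), him 2 (by decide), him 3 (by decide), him 4 (by decide), him 5 (by decide), him 6 (by decide)])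
    (by intro s hs; interval_cases s <;> decide +kernel)
    reach1_eq count1_eq (show orb1 < 2 ^ 120 by decide +kernel) h

noncomputable def sg2 (x : ℕ) : ℕ := (Bool.rec (motive := fun _ => ℕ) (Bool.rec (motive := fun _ => ℕ) t1 (Bool.rec (motive := fun _ => ℕ) t2 t3 (Nat.ble 2 x)) (Nat.ble 1 x)) (Bool.rec (motive := fun _ => ℕ) t4 (Bool.rec (motive := fun _ => ℕ) t5 t6 (Nat.ble 5 x)) (Nat.ble 4 x)) (Nat.ble 3 x))

def st2 : ℕ := 0x100000000010000000001000000000100000000010000000001000000000000002d04000000280300000023020000001e050000001a050000001a0100000016050000001502000000120200000011030000000e030000000e000000000d000000000c030000000c010000000b010000000a02000000090200000008050000000605000000060400000005050000000503000000040200000003010000000200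

def orb2 : ℕ := 0x82108cc67fffc

theorem reach2_eq : reach sg2 (fun s => if s < 6 then [s] else []) 5 st2 2 = orb2 := by decide +kernel

theorem count2_eq : cntR (fun j => bit orb2 j) 7 0 = 27 := by decide +kernel

theorem level2 (φ : WE8.setup.Grp →* Equiv.Perm (Fin 120)) (him : ∀ x, x < 8 → IsImg φ (tb x))
    (m' : ℕ) (h : m' ≤ Nat.card (fixK φ (2 :: [1, 0]))) : 27 * m' ≤ Nat.card (fixK φ [1, 0]) :=
  level (ns := 6) sg2 (d := 7) (dR := 5) (steps := st2) (R := orb2) (by decide) (by decide)
    (by intro s hs; interval_cases s; exacts [him 1 (by decide), him 2 (by decide), him 3 (by decide), him 4 (by decide), him 5 (by decide), him 6 (by decide)])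
    (by intro s hs; interval_cases s <;> decide +kernel)
    reach2_eq count2_eq (show orb2 < 2 ^ 120 by decide +kernel) h

noncomputable def sg3 (x : ℕ) : ℕ := (Bool.rec (motive := fun _ => ℕ) (Bool.rec (motive := fun _ => ℕ) t2 t3 (Nat.ble 1 x)) (Bool.rec (motive := fun _ => ℕ) t4 (Bool.rec (motive := fun _ => ℕ) t5 t6 (Nat.ble 4 x)) (Nat.ble 3 x)) (Nat.ble 2 x))

def st3 : ℕ := 0x100000000000000160400000012010000000e020000000c020000000c000000000b000000000a0100000009010000000804000000060400000006030000000504000000050200000004010000000300

def orb3 : ℕ := 0x844fff8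

theorem reach3_eq : reach sg3 (fun s => if s < 5 then [s] else []) 4 st3 3 = orb3 := by decide +kernel

theorem count3_eq : cntR (fun j => bit orb3 j) 7 0 = 16 := by decide +kernel

theorem level3 (φ : WE8.setup.Grp →* Equiv.Perm (Fin 120)) (him : ∀ x, x < 8 → IsImg φ (tb x))
    (m' : ℕ) (h : m' ≤ Nat.card (fixK φ (3 :: [2, 1, 0]))) : 16 * m' ≤ Nat.card (fixK φ [2, 1, 0]) :=
  level (ns := 5) sg3 (d := 7) (dR := 4) (steps := st3) (R := orb3) (by decide) (by decide)
    (by intro s hs; interval_cases s; exacts [him 2 (by decide), him 3 (by decide), him 4 (by decide), him 5 (by decide), him 6 (by decide)])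
    (by intro s hs; interval_cases s <;> decide +kernel)
    reach3_eq count3_eq (show orb3 < 2 ^ 120 by decide +kernel) h

noncomputable def sg4 (x : ℕ) : ℕ := (Bool.rec (motive := fun _ => ℕ) (Bool.rec (motive := fun _ => ℕ) t3 t4 (Nat.ble 1 x)) (Bool.rec (motive := fun _ => ℕ) t5 t6 (Nat.ble 3 x)) (Nat.ble 2 x))

def st4 : ℕ := 0x1000000000100000000010000000001000000000100000000010000000001000000000000000c010000000a000000000900000000080300000006030000000602000000050300000005010000000400

def orb4 : ℕ := 0x9ff0

theorem reach4_eq : reach sg4 (fun s => if s < 4 then [s] else []) 4 st4 4 = orb4 := by decide +kernel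

theorem count4_eq : cntR (fun j => bit orb4 j) 7 0 = 10 := by decide +kernel

theorem level4 (φ : WE8.setup.Grp →* Equiv.Perm (Fin 120)) (him : ∀ x, x < 8 → IsImg φ (tb x))
    (m' : ℕ) (h : m' ≤ Nat.card (fixK φ (4 :: [3, 2, 1, 0]))) : 10 * m' ≤ Nat.card (fixK φ [3, 2, 1, 0]) :=
  level (ns := 4) sg4 (d := 7) (dR := 4) (steps := st4) (R := orb4) (by decide) (by decide)
    (by intro s hs; interval_cases s; exacts [him 3 (by decide), him 4 (by decide), him 5 (by decide), him 6 (by decide)])
    (by intro s hs; interval_cases s <;> decide +kernel)
    reach4_eq count4_eq (show orb4 < 2 ^ 120 by decide +kernel) h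

noncomputable def sg5 (x : ℕ) : ℕ := (Bool.rec (motive := fun _ => ℕ) t4 (Bool.rec (motive := fun _ => ℕ) t5 t6 (Nat.ble 2 x)) (Nat.ble 1 x))

def st5 : ℕ := 0xc010000000f00

def orb5 : ℕ := 0x9800

theorem reach5_eq : reach sg5 (fun s => if s < 3 then [s] else []) 1 st5 15 = orb5 := by decide +kernel

theorem count5_eq : cntR (fun j => bit orb5 j) 7 0 = 3 := by decide +kernel

theorem level5 (φ : WE8.setup.Grp →* Equiv.Perm (Fin 120)) (him : ∀ x, x < 8 → IsImg φ (tb x))
    (m' : ℕ) (h : m' ≤ Nat.card (fixK φ (15 :: [4, 3, 2, 1, 0]))) : 3 * m' ≤ Nat.card (fixK φ [4, 3, 2, 1, 0]) :=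
  level (ns := 3) sg5 (d := 7) (dR := 1) (steps := st5) (R := orb5) (by decide) (by decide)
    (by intro s hs; interval_cases s; exacts [him 4 (by decide), him 5 (by decide), him 6 (by decide)])
    (by intro s hs; interval_cases s <;> decide +kernel)
    reach5_eq count5_eq (show orb5 < 2 ^ 120 by decide +kernel) h

noncomputable def sg6 (x : ℕ) : ℕ := (Bool.rec (motive := fun _ => ℕ) t5 t6 (Nat.ble 1 x))

def st6 : ℕ := 0x1000000000000000b00

def orb6 : ℕ := 0x1800

theorem reach6_eq : reach sg6 (fun s => if s < 2 then [s] else []) 1 st6 11 = orb6 := by decide +kernel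

theorem count6_eq : cntR (fun j => bit orb6 j) 7 0 = 2 := by decide +kernel

theorem level6 (φ : WE8.setup.Grp →* Equiv.Perm (Fin 120)) (him : ∀ x, x < 8 → IsImg φ (tb x))
    (m' : ℕ) (h : m' ≤ Nat.card (fixK φ (11 :: [15, 4, 3, 2, 1, 0]))) : 2 * m' ≤ Nat.card (fixK φ [15, 4, 3, 2, 1, 0]) :=
  level (ns := 2) sg6 (d := 7) (dR := 1) (steps := st6) (R := orb6) (by decide) (by decide)
    (by intro s hs; interval_cases s; exacts [him 5 (by decide), him 6 (by decide)])
    (by intro s hs; interval_cases s <;> decide +kernel)
    reach6_eq count6_eq (show orb6 < 2 ^ 120 by decide +kernel) h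

noncomputable def sg7 (x : ℕ) : ℕ := t6

def st7 : ℕ := 0x1000000000000000500

def orb7 : ℕ := 0xa0

theorem reach7_eq : reach sg7 (fun s => if s < 1 then [s] else []) 1 st7 5 = orb7 := by decide +kernel

theorem count7_eq : cntR (fun j => bit orb7 j) 7 0 = 2 := by decide +kernel

theorem level7 (φ : WE8.setup.Grp →* Equiv.Perm (Fin 120)) (him : ∀ x, x < 8 → IsImg φ (tb x))
    (m' : ℕ) (h : m' ≤ Nat.card (fixK φ (5 :: [11, 15, 4, 3, 2, 1, 0]))) : 2 * m' ≤ Nat.card (fixK φ [11, 15, 4, 3, 2, 1, 0]) :=
  level (ns := 1) sg7 (d := 7) (dR := 1) (steps := st7) (R := orb7) (by decide) (by decide)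
    (by intro s hs; interval_cases s; exacts [him 6 (by decide)])
    (by intro s hs; interval_cases s <;> decide +kernel)
    reach7_eq count7_eq (show orb7 < 2 ^ 120 by decide +kernel) h

theorem range_ge (φ : WE8.setup.Grp →* Equiv.Perm (Fin 120)) (him : ∀ x, x < 8 → IsImg φ (tb x)) :
    348364800 ≤ Nat.card φ.range :=
  card_range_ge φ _ (le_trans (by decide +kernel) (level0 φ him _ (level1 φ him _ (level2 φ him _ (level3 φ him _ (level4 φ him _ (level5 φ him _ (level6 φ him _ (level7 φ him _ (one_le_card_fixK φ _))))))))))

end CfsgLib.CosetEnum.Fi24E8
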